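import Cfsg.Agent.Lib.Solvable.Fitting

/-!
# The upper p-series (owner: helper32)

* `upperPSeries_succ_even` / `upperPSeries_succ_odd`: the next term through any surjection with that kernel
* `upperPSeries_one`, `upperPSeries_two`, `upperPSeries_le_succ`
* `pPrimeCore_quotient_odd`: `O_{p'}(G / U (2k+1)) = 1`
* `comap_upperPSeries`: the series of a quotient by an even term is the shifted series
* `centralizer_pCore_quotient_odd`: Hall–Higman 1.2.3 in each quotient by an odd term
* `upperPSeries_eq_top_of_class_le`: p-length at most the class of a Sylow p-subgroup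
-/

namespace Cfsg.Agent.PSeries

variable {G : Type*} [Group G] {p : ℕ}

theorem comap_pPrimeCore_congr {A B : Type*} [Group A] [Group B] (a : G →* A) (b : G →* B)
    (ha : Function.Surjective a) (hb : Function.Surjective b) (h : a.ker = b.ker) :
    (Cfsg.pPrimeCore p A).comap a = (Cfsg.pPrimeCore p B).comap b := by
  let e : A ≃* B := (QuotientGroup.quotientKerEquivOfSurjective a ha).symm.trans
    ((QuotientGroup.quotientMulEquivOfEq h).trans (QuotientGroup.quotientKerEquivOfSurjective b hb))
  have he : ∀ g, e (a g) = b g := by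
    intro g
    have : (QuotientGroup.quotientKerEquivOfSurjective a ha).symm (a g) = QuotientGroup.mk g := by
      rw [MulEquiv.symm_apply_eq]; rfl
    simp only [e, MulEquiv.trans_apply, this]
    rfl
  rw [← Cores.pPrimeCore_map_mulEquiv e]
  ext g
  simp only [Subgroup.mem_comap, Subgroup.mem_map, MulEquiv.coe_toMonoidHom]
  exact ⟨fun h => ⟨_, h, he g⟩, fun ⟨x, hx, hxg⟩ => by rwa [← e.injective (hxg.trans (he g).symm)]⟩

theorem comap_pCore_congr {A B : Type*} [Group A] [Group B] (a : G →* A) (b : G →* B)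
    (ha : Function.Surjective a) (hb : Function.Surjective b) (h : a.ker = b.ker) :
    (Cfsg.pCore p A).comap a = (Cfsg.pCore p B).comap b := by
  let e : A ≃* B := (QuotientGroup.quotientKerEquivOfSurjective a ha).symm.trans
    ((QuotientGroup.quotientMulEquivOfEq h).trans (QuotientGroup.quotientKerEquivOfSurjective b hb))
  have he : ∀ g, e (a g) = b g := by
    intro g
    have : (QuotientGroup.quotientKerEquivOfSurjective a ha).symm (a g) = QuotientGroup.mk g := by
      rw [MulEquiv.symm_apply_eq]; rfl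
    simp only [e, MulEquiv.trans_apply, this]
    rfl
  rw [← Cores.pCore_map_mulEquiv e]
  ext g
  simp only [Subgroup.mem_comap, Subgroup.mem_map, MulEquiv.coe_toMonoidHom]
  exact ⟨fun h => ⟨_, h, he g⟩, fun ⟨x, hx, hxg⟩ => by rwa [← e.injective (hxg.trans (he g).symm)]⟩

theorem upperPSeries_zero : (Cfsg.upperPSeries p G 0).1 = ⊥ := rfl

theorem upperPSeries_succ_even {n : ℕ} (hn : Even n) {A : Type*} [Group A] (a : G →* A)
    (ha : Function.Surjective a) (hk : a.ker = (Cfsg.upperPSeries p G n).1) :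
    (Cfsg.upperPSeries p G (n + 1)).1 = (Cfsg.pPrimeCore p A).comap a := by
  haveI := (Cfsg.upperPSeries p G n).2
  have e1 : (Cfsg.upperPSeries p G (n + 1)).1 =
      (Cfsg.pPrimeCore p (G ⧸ (Cfsg.upperPSeries p G n).1)).comap (QuotientGroup.mk' ((Cfsg.upperPSeries p G n).1)) := by
    conv_lhs => rw [Cfsg.upperPSeries.eq_def]
    simp only [if_pos hn]
  rw [e1]
  exact comap_pPrimeCore_congr _ _ (QuotientGroup.mk'_surjective _) ha (by rw [QuotientGroup.ker_mk', hk])

theorem upperPSeries_succ_odd {n : ℕ} (hn : ¬ Even n) {A : Type*} [Group A] (a : G →* A)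
    (ha : Function.Surjective a) (hk : a.ker = (Cfsg.upperPSeries p G n).1) :
    (Cfsg.upperPSeries p G (n + 1)).1 = (Cfsg.pCore p A).comap a := by
  haveI := (Cfsg.upperPSeries p G n).2
  have e1 : (Cfsg.upperPSeries p G (n + 1)).1 =
      (Cfsg.pCore p (G ⧸ (Cfsg.upperPSeries p G n).1)).comap (QuotientGroup.mk' ((Cfsg.upperPSeries p G n).1)) := by
    conv_lhs => rw [Cfsg.upperPSeries.eq_def]
    simp only [if_neg hn]
  rw [e1]
  exact comap_pCore_congr _ _ (QuotientGroup.mk'_surjective _) ha (by rw [QuotientGroup.ker_mk', hk])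

theorem upperPSeries_one : (Cfsg.upperPSeries p G 1).1 = Cfsg.pPrimeCore p G := by
  rw [show (1 : ℕ) = 0 + 1 from rfl,
    upperPSeries_succ_even (show Even 0 by simp) (MonoidHom.id G) Function.surjective_id
      (by rw [upperPSeries_zero, MonoidHom.ker_id]), Subgroup.comap_id]

theorem upperPSeries_two : (Cfsg.upperPSeries p G 2).1 = Cfsg.pPrimePCore p G := by
  rw [show (2 : ℕ) = 1 + 1 from rfl,
    upperPSeries_succ_odd (by simp) (QuotientGroup.mk' (Cfsg.pPrimeCore p G))
      (QuotientGroup.mk'_surjective _) (by rw [QuotientGroup.ker_mk', upperPSeries_one])]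
  rfl

theorem upperPSeries_le_succ (n : ℕ) : (Cfsg.upperPSeries p G n).1 ≤ (Cfsg.upperPSeries p G (n + 1)).1 := by
  have hker : (QuotientGroup.mk' ((Cfsg.upperPSeries p G n).1)).ker = (Cfsg.upperPSeries p G n).1 := QuotientGroup.ker_mk' _
  by_cases hn : Even n
  · rw [upperPSeries_succ_even hn _ (QuotientGroup.mk'_surjective _) hker]
    exact QuotientGroup.le_comap_mk' _ _
  · rw [upperPSeries_succ_odd hn _ (QuotientGroup.mk'_surjective _) hker]
    exact QuotientGroup.le_comap_mk' _ _

theorem upperPSeries_mono : Monotone fun n => (Cfsg.upperPSeries p G n).1 := monotone_nat_of_le_succ upperPSeries_le_succ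

/-- `O_{p'}` of a quotient by an odd term is trivial. -/
theorem pPrimeCore_quotient_odd [Finite G] (k : ℕ) {A : Type*} [Group A] (a : G →* A)
    (ha : Function.Surjective a) (hk : a.ker = (Cfsg.upperPSeries p G (2 * k + 1)).1) : Cfsg.pPrimeCore p A = ⊥ := by
  haveI := (Cfsg.upperPSeries p G (2 * k)).2
  set b := QuotientGroup.mk' ((Cfsg.upperPSeries p G (2 * k)).1)
  have hb : Function.Surjective b := QuotientGroup.mk'_surjective _
  have hbk : b.ker = (Cfsg.upperPSeries p G (2 * k)).1 := QuotientGroup.ker_mk' _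
  have h1 : (Cfsg.upperPSeries p G (2 * k + 1)).1 = ((QuotientGroup.mk' (Cfsg.pPrimeCore p (G ⧸ (Cfsg.upperPSeries p G (2 * k)).1))).comp b).ker := by
    rw [upperPSeries_succ_even (by simp) b hb hbk, ← MonoidHom.comap_bot, ← Subgroup.comap_comap,
      MonoidHom.comap_bot, QuotientGroup.ker_mk']
  have h2 := comap_pPrimeCore_congr (p := p) a ((QuotientGroup.mk' (Cfsg.pPrimeCore p (G ⧸ (Cfsg.upperPSeries p G (2 * k)).1))).comp b)
    ha ((QuotientGroup.mk'_surjective _).comp hb) (hk.trans h1)
  rw [Cores.pPrimeCore_quotient_self, MonoidHom.comap_bot, ← h1, ← hk, ← MonoidHom.comap_bot] at h2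
  exact Subgroup.comap_injective ha h2

/-- Shift: the series of a quotient by an even term. -/
theorem comap_upperPSeries (j : ℕ) {A : Type*} [Group A] (a : G →* A) (ha : Function.Surjective a)
    (hk : a.ker = (Cfsg.upperPSeries p G (2 * j)).1) (n : ℕ) : (Cfsg.upperPSeries p A n).1.comap a = (Cfsg.upperPSeries p G (2 * j + n)).1 := by
  induction n with
  | zero => exact (MonoidHom.comap_bot a).trans hk
  | succ n ih =>
    haveI := (Cfsg.upperPSeries p A n).2
    set b := QuotientGroup.mk' (Cfsg.upperPSeries p A n).1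
    have hb : Function.Surjective b := QuotientGroup.mk'_surjective _
    have hbk : b.ker = (Cfsg.upperPSeries p A n).1 := QuotientGroup.ker_mk' _
    have hc : (b.comp a).ker = (Cfsg.upperPSeries p G (2 * j + n)).1 := by
      rw [← ih, ← MonoidHom.comap_ker, hbk]
    by_cases hn : Even n
    · rw [upperPSeries_succ_even hn b hb hbk, Subgroup.comap_comap, ← Nat.add_assoc,
        upperPSeries_succ_even (by simp [Nat.even_add, hn]) (b.comp a) (hb.comp ha) hc]
    · rw [upperPSeries_succ_odd hn b hb hbk, Subgroup.comap_comap, ← Nat.add_assoc,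
        upperPSeries_succ_odd (by simp [Nat.even_add, hn]) (b.comp a) (hb.comp ha) hc]

/-- Hall–Higman 1.2.3 in a quotient by an odd term. -/
theorem centralizer_pCore_quotient_odd [Finite G] [Fact p.Prime]
    (hsep : Solvable.IsPiSeparable {p} G) (k : ℕ) {A : Type*} [Group A] (a : G →* A)
    (ha : Function.Surjective a) (hk : a.ker = (Cfsg.upperPSeries p G (2 * k + 1)).1) :
    Subgroup.centralizer (Cfsg.pCore p A : Set A) ≤ Cfsg.pCore p A := by
  haveI : Finite A := Finite.of_surjective a ha
  exact Solvable.centralizer_pCore_le (hsep.of_surjective a ha) (pPrimeCore_quotient_odd k a ha hk)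

end Cfsg.Agent.PSeries

namespace Cfsg.Agent.PSeries

variable {G : Type*} [Group G] {p : ℕ}

/-- Frattini argument modulo a normal `p'`-subgroup: `G = N_G(P) U` when `U ⊔ P` is normal. -/
theorem exists_normalizer_mul [Finite G] [Fact p.Prime] (V P : Subgroup G) [V.Normal]
    (hV : (Nat.card V).Coprime p) (hP : IsPGroup p P) (hM : (V ⊔ P).Normal) (g : G) :
    ∃ n ∈ Subgroup.normalizer (P : Set G), ∃ u ∈ V, g = n * u := by
  haveI := hM
  obtain ⟨k, hk⟩ := IsPGroup.iff_card.mp hP
  have hidx : ¬ p ∣ (P.subgroupOf (V ⊔ P)).index := by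
    intro hd
    have h1 := (P.subgroupOf (V ⊔ P)).card_mul_index
    rw [Cores.card_subgroupOf (le_sup_right : P ≤ V ⊔ P)] at h1
    have h2 : Nat.card ↥(V ⊔ P) ∣ Nat.card P * Nat.card V := by
      rw [sup_comm]; exact Cores.card_sup_dvd P V
    rw [← h1] at h2
    have h3 : (P.subgroupOf (V ⊔ P)).index ∣ Nat.card V :=
      Nat.dvd_of_mul_dvd_mul_left Nat.card_pos h2
    exact (Fact.out : p.Prime).coprime_iff_not_dvd.mp hV.symm (hd.trans h3)
  have hp' : IsPGroup p (P.subgroupOf (V ⊔ P)) := hP.comap_subtype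
  have hF := Sylow.normalizer_sup_eq_top (hp'.toSylow hidx)
  rw [IsPGroup.toSylow_coe, Subgroup.map_subgroupOf_eq_of_le le_sup_right] at hF
  have hF' : Subgroup.normalizer (P : Set G) ⊔ V = ⊤ := by
    rw [eq_top_iff, ← hF]
    exact sup_le le_sup_left (sup_le le_sup_right (Subgroup.le_normalizer.trans le_sup_left))
  obtain ⟨n, hn, u, hu, e⟩ := Subgroup.mem_sup_of_normal_right.mp
    (show g ∈ Subgroup.normalizer (P : Set G) ⊔ V by rw [hF']; trivial)
  exact ⟨n, hn, u, hu, e.symm⟩

/-- An element normalising `P` and centralising it modulo a `p'`-subgroup `V` centralises it. -/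
theorem mem_centralizer_of_commutator_mem [Finite G] [Fact p.Prime] {V P : Subgroup G}
    (hV : (Nat.card V).Coprime p) (hP : IsPGroup p P) {n : G}
    (hn : n ∈ Subgroup.normalizer (P : Set G)) (h : ∀ x ∈ P, n * x * n⁻¹ * x⁻¹ ∈ V) :
    n ∈ Subgroup.centralizer (P : Set G) := by
  obtain ⟨k, hk⟩ := IsPGroup.iff_card.mp hP
  have hd : P ⊓ V = ⊥ := Subgroup.inf_eq_bot_of_coprime (hk ▸ hV.symm.pow_left k)
  refine Subgroup.mem_centralizer_iff.mpr fun x hx => ?_
  have hm : n * x * n⁻¹ * x⁻¹ ∈ P ⊓ V :=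
    ⟨P.mul_mem ((Subgroup.mem_normalizer_iff.mp hn x).mp hx) (P.inv_mem hx), h x hx⟩
  rw [hd, Subgroup.mem_bot, mul_inv_eq_one, mul_inv_eq_iff_eq_mul] at hm
  exact hm.symm

end Cfsg.Agent.PSeries
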