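/-
Groups of `p`-length at most one.

* `index_pPrimePCore_coprime` : `G/O_{p',p}(G)` is a `p'`-group
* `le_pPrimePCore_of_pLengthLE_one` : every `p`-subgroup lies in `O_{p',p}(G)`
-/
import Cfsg.Agent.Lib.PSeries.Basic

set_option autoImplicit false

namespace Cfsg.Agent.PSeries

variable {G : Type*} [Group G] {p : ℕ}

theorem index_pPrimePCore_coprime [Finite G] (h : Cfsg.PLengthLE p 1 G) :
    (Cfsg.pPrimePCore p G).index.Coprime p := by
  haveI := (Cfsg.upperPSeries p G 2).2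
  have h3 := upperPSeries_succ_even (n := 2) even_two
    (QuotientGroup.mk' (Cfsg.upperPSeries p G 2).1) (QuotientGroup.mk'_surjective _)
    (QuotientGroup.ker_mk' _)
  have htop : (Cfsg.upperPSeries p G (2 + 1)).1 = ⊤ := h
  rw [htop] at h3
  have h4 : Cfsg.pPrimeCore p (G ⧸ (Cfsg.upperPSeries p G 2).1) = ⊤ := by
    rw [← Subgroup.map_comap_eq_self_of_surjective (QuotientGroup.mk'_surjective _)
      (Cfsg.pPrimeCore p (G ⧸ (Cfsg.upperPSeries p G 2).1)), ← h3,
      Subgroup.map_top_of_surjective _ (QuotientGroup.mk'_surjective _)]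
  have h5 := Cores.coprime_card_pPrimeCore (G := G ⧸ (Cfsg.upperPSeries p G 2).1) p
  rw [h4, Subgroup.card_top] at h5
  rw [← upperPSeries_two]
  exact h5

theorem le_pPrimePCore_of_pLengthLE_one [Finite G] [Fact p.Prime] (h : Cfsg.PLengthLE p 1 G)
    {T : Subgroup G} (hT : IsPGroup p T) : T ≤ Cfsg.pPrimePCore p G := by
  haveI := (Cfsg.upperPSeries p G 2).2
  have hc := index_pPrimePCore_coprime h
  rw [← upperPSeries_two] at hc ⊢
  intro t ht
  obtain ⟨k, hk⟩ := (hT.map (QuotientGroup.mk' (Cfsg.upperPSeries p G 2).1)).exists_card_eq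
  rw [← QuotientGroup.eq_one_iff]
  refine orderOf_eq_one_iff.1 (Nat.dvd_one.1 ?_)
  rw [← Nat.Coprime.pow_right k hc]
  refine Nat.dvd_gcd (orderOf_dvd_natCard _) ?_
  rw [← hk]
  exact Subgroup.orderOf_dvd_natCard _ (Subgroup.mem_map_of_mem _ ht)

end Cfsg.Agent.PSeries
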